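import Cfsg.Agent.Lib.ZStar.KleinBlock
import Cfsg.Agent.Lib.BrauerHomo.Local
import Cfsg.Agent.Lib.Char.ClassMult

/-!
# Groups with a self-centralising Klein four Sylow subgroup and one class of involutions

`order_arith`: the Diophantine condition on the degrees of the principal block.
`card_eq`: the order is 12 or 60. `normalizer_facts`: the fusion in such groups.
-/

set_option autoImplicit false

open scoped ComplexConjugate

namespace Cfsg.Agent.DihedralEight

open Cfsg

theorem order_arith {n a b c : ℤ} (ha : 4 ∣ a - 1) (hb : 4 ∣ b - 1) (hc : 4 ∣ c - 1)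
    (hsum : 1 + a + b + c = 0) (hsq : 1 + a * a + b * b + c * c ≤ n)
    (heq : 32 * (a * b * c) = n * (a * b * c + b * c + a * c + a * b)) : n = 12 ∨ n = 60 := by
  have two_pos : ∀ x y : ℤ, 4 ∣ x - 1 → 4 ∣ y - 1 → 0 < x → 0 < y →
      1 + x * x + y * y + (x + y + 1) * (x + y + 1) ≤ n →
      32 * (x * y * (x + y + 1)) = n * (x * y * (x + y + 1) + y * (x + y + 1) + x * (x + y + 1) - x * y) →
      n = 12 := by
    intro x y hx hy hx0 hy0 hs he
    have hn : n < 32 := by
      by_contra hn
      have h1 : 32 * (x * y * (x + y + 1) + y * (x + y + 1) + x * (x + y + 1) - x * y)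
          ≤ n * (x * y * (x + y + 1) + y * (x + y + 1) + x * (x + y + 1) - x * y) := by
        refine mul_le_mul_of_nonneg_right (not_lt.1 hn) ?_
        nlinarith [mul_pos hx0 hy0, mul_pos (mul_pos hx0 hy0) (show (0 : ℤ) < x + y + 1 by omega)]
      nlinarith [mul_pos hy0 hx0, mul_self_nonneg (x - y)]
    have hxy : x + y + 1 < 6 := by nlinarith
    obtain rfl : x = 1 := by omega
    obtain rfl : y = 1 := by omega
    omega
  have two_neg : ∀ x y : ℤ, 4 ∣ x + 1 → 4 ∣ y + 1 → 0 < x → x ≤ y →
      1 + x * x + y * y + (x + y - 1) * (x + y - 1) ≤ n →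
      32 * (x * y * (x + y - 1)) = n * (x * y * (x + y - 1) - y * (x + y - 1) - x * (x + y - 1) + x * y) →
      n = 60 := by
    intro x y hx hy hx0 hxy hs he
    have hx3 : 3 ≤ x := by omega
    have hy3 : 3 ≤ y := by omega
    rcases (show x = 3 ∨ 7 ≤ x by omega) with rfl | hx7
    · rcases (show y = 3 ∨ 7 ≤ y by omega) with rfl | hy7
      · omega
      exfalso
      have hn : 11 * n ≤ 672 := by
        by_contra hn
        have hp : 0 < y * (3 + y - 1) := mul_pos (by omega) (by omega)
        have h2 : 7 * (3 * y * (3 + y - 1) - y * (3 + y - 1) - 3 * (3 + y - 1) + 3 * y)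
            ≥ 11 * (y * (3 + y - 1)) := by nlinarith
        have h3 : (673 : ℤ) * (3 * y * (3 + y - 1) - y * (3 + y - 1) - 3 * (3 + y - 1) + 3 * y)
            ≤ 11 * n * (3 * y * (3 + y - 1) - y * (3 + y - 1) - 3 * (3 + y - 1) + 3 * y) :=
          mul_le_mul_of_nonneg_right (by omega) (by nlinarith)
        nlinarith
      nlinarith
    · exfalso
      have hy7 : 7 ≤ y := by omega
      have hP : 0 < x * y * (x + y - 1) := mul_pos (mul_pos hx0 (by omega)) (by omega)
      have h2 : 7 * (x * y * (x + y - 1) - y * (x + y - 1) - x * (x + y - 1) + x * y)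
          ≥ 5 * (x * y * (x + y - 1)) := by
        nlinarith [mul_nonneg (mul_nonneg (sub_nonneg.2 hx7) (show (0 : ℤ) ≤ y by omega))
          (show (0 : ℤ) ≤ x + y - 1 by omega), mul_nonneg (mul_nonneg (sub_nonneg.2 hy7) hx0.le)
          (show (0 : ℤ) ≤ x + y - 1 by omega)]
      have hn : 5 * n ≤ 224 := by
        by_contra hn
        have h3 : (225 : ℤ) * (x * y * (x + y - 1) - y * (x + y - 1) - x * (x + y - 1) + x * y)
            ≤ 5 * n * (x * y * (x + y - 1) - y * (x + y - 1) - x * (x + y - 1) + x * y) :=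
          mul_le_mul_of_nonneg_right (by omega) (by nlinarith)
        nlinarith
      nlinarith
  have main_neg : ∀ x y : ℤ, 4 ∣ x - 1 → 4 ∣ y - 1 → x < 0 → y < 0 →
      1 + x * x + y * y + (-1 - x - y) * (-1 - x - y) ≤ n →
      32 * (x * y * (-1 - x - y)) = n * (x * y * (-1 - x - y) + y * (-1 - x - y) + x * (-1 - x - y) + x * y) →
      n = 60 := by
    intro x y hx hy hx0 hy0 hs he
    rcases le_total (-x) (-y) with h | h
    · exact two_neg (-x) (-y) (by omega) (by omega) (by omega) h (le_of_eq_of_le (by ring) hs)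
        (by linear_combination he)
    · exact two_neg (-y) (-x) (by omega) (by omega) (by omega) h (le_of_eq_of_le (by ring) hs)
        (by linear_combination he)
  rcases lt_trichotomy a 0 with a0 | a0 | a0
  · rcases lt_trichotomy b 0 with b0 | b0 | b0
    · obtain rfl : c = -1 - a - b := by omega
      exact Or.inr (main_neg a b ha hb a0 b0 hsq heq)
    · omega
    · rcases lt_trichotomy c 0 with c0 | c0 | c0
      · obtain rfl : b = -1 - a - c := by omega
        exact Or.inr (main_neg a c ha hc a0 c0 (le_of_eq_of_le (by ring) hsq) (by linear_combination heq))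
      · omega
      · obtain rfl : a = -(b + c + 1) := by omega
        exact Or.inl (two_pos b c hb hc b0 c0 (le_of_eq_of_le (by ring) hsq) (by linear_combination -heq))
  · omega
  · rcases lt_trichotomy b 0 with b0 | b0 | b0
    · rcases lt_trichotomy c 0 with c0 | c0 | c0
      · obtain rfl : a = -1 - b - c := by omega
        exact Or.inr (main_neg b c hb hc b0 c0 (le_of_eq_of_le (by ring) hsq) (by linear_combination heq))
      · omega
      · obtain rfl : b = -(a + c + 1) := by omega
        exact Or.inl (two_pos a c ha hc a0 c0 (le_of_eq_of_le (by ring) hsq) (by linear_combination -heq))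
    · omega
    · obtain rfl : c = -(a + b + 1) := by omega
      exact Or.inl (two_pos a b ha hb a0 b0 (le_of_eq_of_le (by ring) hsq) (by linear_combination -heq))

variable {G : Type*} [Group G] [Finite G]

theorem card_involutions_klein {V : Type*} [Group V] [IsKleinFour V] :
    Nat.card {x : V // x * x = 1 ∧ x ≠ 1} = 3 := by
  classical
  haveI : Finite V := Nat.finite_of_card_ne_zero (by rw [IsKleinFour.card_four]; norm_num)
  haveI := Fintype.ofFinite V
  have hsq : ∀ x : V, x * x = 1 := fun x => by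
    have h := Monoid.pow_exponent_eq_one x
    rwa [IsKleinFour.exponent_two, pow_two] at h
  rw [Nat.card_congr (Equiv.subtypeEquivRight fun x => and_iff_right (hsq x)), Nat.card_eq_fintype_card,
    Fintype.card_subtype_compl, Fintype.card_subtype_eq, ← Nat.card_eq_fintype_card, IsKleinFour.card_four]

variable (V : Sylow 2 G) [IsKleinFour (V : Subgroup G)]

/-- The normalizer of `V`, when `V` is the centralizer of each of its involutions and `G` is not 2-nilpotent. -/
theorem normalizer_facts (hcent : ∀ u ∈ (V : Subgroup G), u ≠ 1 → Subgroup.centralizer ({u} : Set G) = V)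
    (hnc : ∀ N : Subgroup G, N.Normal → ¬ Subgroup.IsComplement' N (V : Subgroup G)) :
    (∀ s t : G, orderOf s = 2 → orderOf t = 2 → IsConj s t) ∧
      Nat.card (Subgroup.normalizer ((V : Subgroup G) : Set G)) = 12 := by
  classical
  haveI : Fact (Nat.Prime 2) := ⟨Nat.prime_two⟩
  have hcard : Nat.card (V : Subgroup G) = 2 ^ 2 := IsKleinFour.card_four
  have hcomm : ∀ a b : (V : Subgroup G), a * b = b * a := fun a b =>
    mul_comm_of_exponent_two (IsKleinFour.exponent_two) a b
  have hΩ : Nat.card {x : (V : Subgroup G) // x * x = 1 ∧ x ≠ 1} = 3 := card_involutions_klein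
  haveI : IsMulCommutative (V : Subgroup G) := ⟨⟨hcomm⟩⟩
  set φ := (V : Subgroup G).normalizerMonoidHom
  obtain ⟨hR, hfree⟩ := BrauerHomo.aut_odd hcomm hcard hΩ φ.range (BrauerHomo.range_odd V hcomm)
  have h3 : Nat.card φ.range = 3 := by
    refine hR.resolve_left fun h1 => ?_
    have hNC : Subgroup.normalizer ((V : Subgroup G) : Set G) ≤ Subgroup.centralizer ((V : Subgroup G) : Set G) := by
      intro n hn
      have h : φ ⟨n, hn⟩ = 1 := by
        haveI := (Nat.card_eq_one_iff_unique.1 h1).1
        exact congrArg Subtype.val (Subsingleton.elim (⟨φ ⟨n, hn⟩, ⟨_, rfl⟩⟩ : φ.range) 1)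
      refine Subgroup.mem_centralizer_iff.2 fun a ha => ?_
      have h4' := congrArg Subtype.val (DFunLike.congr_fun h (⟨a, ha⟩ : (V : Subgroup G)))
      have h4 : n * a * n⁻¹ = a := h4'
      exact (mul_inv_eq_iff_eq_mul.1 h4).symm
    exact hnc _ (MonoidHom.normal_ker _) (MonoidHom.ker_transferSylow_isComplement' V hNC)
  obtain ⟨τ, hτ⟩ : ∃ τ : φ.range, τ ≠ 1 := by
    haveI : Nontrivial φ.range := Finite.one_lt_card_iff_nontrivial.1 (by omega)
    exact exists_ne 1
  obtain ⟨n, hn⟩ := τ.2
  refine ⟨?_, ?_⟩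
  · have hmem : ∀ s : G, orderOf s = 2 → ∃ a : {x : (V : Subgroup G) // x * x = 1 ∧ x ≠ 1},
        IsConj s ((a : (V : Subgroup G)) : G) := by
      intro s hs
      obtain ⟨R, hR'⟩ := (IsPGroup.of_card (n := 1) (by rw [Nat.card_zpowers, hs, pow_one]) :
        IsPGroup 2 (Subgroup.zpowers s)).exists_le_sylow
      obtain ⟨g, hg⟩ := MulAction.exists_smul_eq G R V
      have hmV : g * s * g⁻¹ ∈ (V : Subgroup G) := by rw [← hg]; exact ⟨s, hR' (Subgroup.mem_zpowers s), rfl⟩
      refine ⟨⟨⟨_, hmV⟩, Subtype.ext ?_, fun h => ?_⟩, isConj_iff.2 ⟨g, rfl⟩⟩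
      · show g * s * g⁻¹ * (g * s * g⁻¹) = 1
        rw [show g * s * g⁻¹ * (g * s * g⁻¹) = g * (s * s) * g⁻¹ by group, Involution.mul_self hs, mul_one,
          mul_inv_cancel]
      · have h' : g * s * g⁻¹ = 1 := congrArg Subtype.val h
        exact Involution.ne_one hs (conj_eq_one_iff.1 h')
    let Ω := {x : (V : Subgroup G) // x * x = 1 ∧ x ≠ 1}
    have hfus : ∀ a b : Ω, IsConj ((a : (V : Subgroup G)) : G) ((b : (V : Subgroup G)) : G) := by
      intro a b
      haveI : Fintype Ω := Fintype.ofFinite _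
      let T : Ω → Ω := fun x => ⟨φ n x.1, by rw [← map_mul, x.2.1, map_one],
        fun h => x.2.2 ((φ n).injective (h.trans (map_one _).symm))⟩
      have hTne : ∀ x : Ω, T x ≠ x := fun x h => by
        have := hfree _ ⟨n, rfl⟩ x.1 x.2.2 (congrArg Subtype.val h)
        exact hτ (Subtype.ext (hn ▸ this))
      have hT2 : ∀ x : Ω, T (T x) ≠ x := fun x h => by
        have h2 : (φ n * φ n) x.1 = x.1 := congrArg Subtype.val h
        have := hfree _ ⟨n * n, map_mul φ n n⟩ x.1 x.2.2 h2
        have h' : τ ^ 2 = 1 := Subtype.ext (by rw [Subgroup.coe_pow, pow_two, ← hn]; exact this)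
        have h'' : τ ^ 3 = 1 := by rw [← h3]; exact pow_card_eq_one'
        rw [pow_succ, h', one_mul] at h''
        exact hτ h''
      have huniv : ({a, T a, T (T a)} : Finset Ω) = Finset.univ := by
        refine Finset.eq_univ_of_card _ ?_
        rw [← Nat.card_eq_fintype_card, hΩ]
        have e1 := hTne a
        have e2 := hT2 a
        have e3 := hTne (T a)
        simp [e1.symm, e2.symm, e3.symm]
      have hb : b ∈ ({a, T a, T (T a)} : Finset Ω) := huniv ▸ Finset.mem_univ b
      simp only [Finset.mem_insert, Finset.mem_singleton] at hb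
      rcases hb with rfl | rfl | rfl
      · exact IsConj.refl _
      · exact isConj_iff.2 ⟨n, rfl⟩
      · exact (isConj_iff.2 ⟨(n : G), rfl⟩ : IsConj _ ((T a : (V : Subgroup G)) : G)).trans
          (isConj_iff.2 ⟨(n : G), rfl⟩)
    intro s t hs ht
    obtain ⟨a, ha⟩ := hmem s hs
    obtain ⟨b, hb⟩ := hmem t ht
    exact ha.trans ((hfus a b).trans hb.symm)
  · obtain ⟨x, hx⟩ : ∃ x : (V : Subgroup G), x ≠ 1 := by
      haveI : Nontrivial (V : Subgroup G) := Finite.one_lt_card_iff_nontrivial.1 (by rw [hcard]; norm_num)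
      exact exists_ne 1
    have hCV : Subgroup.centralizer ((V : Subgroup G) : Set G) = (V : Subgroup G) := by
      exact le_antisymm ((Subgroup.centralizer_le (Set.singleton_subset_iff.2 x.2)).trans_eq
        (hcent x x.2 fun h => hx (Subtype.ext h))) V.le_centralizer
    have h := φ.ker.card_mul_index
    rw [Subgroup.index_ker, h3, Subgroup.normalizerMonoidHom_ker, hCV,
      Nat.card_congr (Subgroup.subgroupOfEquivOfLe Subgroup.le_normalizer).toEquiv, hcard] at h
    omega

/-- The order of the group. -/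
theorem card_eq (hone : ∀ s t : G, orderOf s = 2 → orderOf t = 2 → IsConj s t) {z : G} (hz : orderOf z = 2)
    (hzV : z ∈ (V : Subgroup G)) (hC : Subgroup.centralizer ({z} : Set G) = V) :
    Nat.card G = 12 ∨ Nat.card G = 60 := by
  classical
  haveI := Fintype.ofFinite G
  haveI := Fintype.ofFinite (IrrCharacter G)
  obtain ⟨M, hM⟩ := Blocks.exists_isPModular Nat.prime_two
  obtain ⟨s, B, hB, hcard, hunit, hval, hmod, horth⟩ := KleinBlock.signs V hM hone
  let one : IrrCharacter G := ⟨1, Char.isIrrCharacter_one⟩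
  have honeB : one ∈ B := (hB one).2 (Blocks.sameBlock_refl hM _)
  let d : IrrCharacter G → ℤ := fun χ => (charDegree (χ : G → ℂ) : ℤ)
  have hd : ∀ χ : IrrCharacter G, (χ : G → ℂ) 1 = (d χ : ℂ) := fun χ => by simp [d, Blocks.charDegree_cast]
  have hdpos : ∀ χ : IrrCharacter G, 0 < d χ := fun χ => Int.ofNat_lt.2 (Blocks.charDegree_pos χ)
  have hs1 : s one = 1 := by
    have h := hval one honeB z hz
    simp only [one, Pi.one_apply] at h
    exact_mod_cast h.symm
  have hd1 : d one = 1 := by
    have h := hd one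
    simp only [one, Pi.one_apply] at h
    exact_mod_cast h.symm
  choose v hv using fun χ : IrrCharacter G => SecondMain.exists_int_involution hz χ
  have hvB : ∀ χ ∈ B, v χ = s χ := fun χ hχ => by
    have h := (hv χ).symm.trans (hval χ hχ z hz)
    exact_mod_cast h
  have hcC : Nat.card (Subgroup.centralizer ({z} : Set G)) = 4 := by rw [hC]; exact IsKleinFour.card_four
  -- characters outside the block vanish at `z`
  have hcol : ∑ χ : IrrCharacter G, v χ * v χ = 4 := by
    have h := Char.column_orth (G := G) z z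
    rw [if_pos (IsConj.refl z), hcC] at h
    simp only [hv, map_intCast] at h
    exact_mod_cast h
  have hvan : ∀ χ ∉ B, v χ = 0 := by
    have h1 : ∑ χ ∈ B, v χ * v χ = 4 := by
      rw [Finset.sum_congr rfl fun χ hχ => show v χ * v χ = 1 by
        rw [hvB χ hχ]; rcases hunit χ hχ with e | e <;> rw [e] <;> norm_num]
      simp [hcard]
    rw [← Finset.sum_sdiff (Finset.subset_univ B), h1, add_eq_right] at hcol
    intro χ hχ
    exact mul_self_eq_zero.1 ((Finset.sum_eq_zero_iff_of_nonneg fun ψ _ => mul_self_nonneg (v ψ)).1 hcol χ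
      (Finset.mem_sdiff.2 ⟨Finset.mem_univ _, hχ⟩))
  -- pairs of involutions with product `z`
  have hinvol : ∀ y : G, IsConj z y → y * y = 1 := fun y hy => by
    obtain ⟨g, rfl⟩ := isConj_iff.1 hy
    rw [show g * z * g⁻¹ * (g * z * g⁻¹) = g * (z * z) * g⁻¹ by group, Involution.mul_self hz, mul_one,
      mul_inv_cancel]
  have hpairs : Nat.card {p : G × G // IsConj z p.1 ∧ IsConj z p.2 ∧ p.1 * p.2 = z} = 2 := by
    have hmemV : ∀ x y : G, IsConj z x → IsConj z y → x * y = z → y ∈ (V : Subgroup G) ∧ y ≠ 1 ∧ y ≠ z := by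
      intro x y hx hy hxy
      have hxz : x = z * y := by rw [← hxy, mul_assoc, hinvol y hy, mul_one]
      refine ⟨?_, ?_, ?_⟩
      · rw [← hC, Subgroup.mem_centralizer_singleton_iff]
        have h := hinvol x hx
        rw [hxz] at h
        calc y * z = (z * z) * (y * z) * (y * y) := by rw [Involution.mul_self hz, hinvol y hy, one_mul, mul_one]
          _ = z * (z * y * (z * y)) * y := by group
          _ = z * y := by rw [h, mul_one]
      · intro h
        obtain ⟨g, hg⟩ := isConj_iff.1 hy
        exact Involution.ne_one hz (conj_eq_one_iff.1 (hg.trans h))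
      · intro h
        rw [h, Involution.mul_self hz] at hxz
        obtain ⟨g, hg⟩ := isConj_iff.1 hx
        exact Involution.ne_one hz (conj_eq_one_iff.1 (hg.trans hxz))
    have hconjV : ∀ y ∈ (V : Subgroup G), y ≠ 1 → IsConj z y := fun y hy h1 =>
      hone z y hz (Involution.orderOf_of_sq (KleinBlock.sq_eq_one V hy) h1)
    let P := {p : G × G // IsConj z p.1 ∧ IsConj z p.2 ∧ p.1 * p.2 = z}
    let Q := {y : (V : Subgroup G) // y ∉ ({1, ⟨z, hzV⟩} : Finset (V : Subgroup G))}
    have hQ : ∀ p : P, (⟨p.1.2, (hmemV _ _ p.2.1 p.2.2.1 p.2.2.2).1⟩ : (V : Subgroup G)) ∉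
        ({1, ⟨z, hzV⟩} : Finset (V : Subgroup G)) := fun p => by
      simp only [Finset.mem_insert, Finset.mem_singleton, Subtype.ext_iff, Subgroup.coe_one, not_or]
      exact (hmemV _ _ p.2.1 p.2.2.1 p.2.2.2).2
    have hP : ∀ y : Q, IsConj z (z * (y.1 : G)) ∧ IsConj z (y.1 : G) ∧ z * (y.1 : G) * (y.1 : G) = z := fun y => by
      have h := y.2
      simp only [Finset.mem_insert, Finset.mem_singleton, Subtype.ext_iff, Subgroup.coe_one, not_or] at h
      refine ⟨hconjV _ ((V : Subgroup G).mul_mem hzV y.1.2) fun e => h.2 ?_, hconjV _ y.1.2 h.1, ?_⟩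
      · rw [← inv_eq_of_mul_eq_one_right e, Involution.inv_eq hz]
      · rw [mul_assoc, KleinBlock.sq_eq_one V y.1.2, mul_one]
    let f : P → Q := fun p => ⟨⟨p.1.2, (hmemV _ _ p.2.1 p.2.2.1 p.2.2.2).1⟩, hQ p⟩
    let g : Q → P := fun y => ⟨(z * (y.1 : G), (y.1 : G)), hP y⟩
    have hgf : ∀ p, g (f p) = p := fun p => Subtype.ext (Prod.ext (by
      show z * p.1.2 = p.1.1
      calc z * p.1.2 = p.1.1 * p.1.2 * p.1.2 := by rw [p.2.2.2]
        _ = p.1.1 := by rw [mul_assoc, hinvol _ p.2.2.1, mul_one]) rfl)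
    rw [show Nat.card P = Nat.card Q from
      Nat.card_congr { toFun := f, invFun := g, left_inv := hgf, right_inv := fun y => rfl }]
    haveI := Fintype.ofFinite (V : Subgroup G)
    rw [Nat.card_eq_fintype_card, Fintype.card_subtype_compl, Fintype.card_coe, ← Nat.card_eq_fintype_card,
      IsKleinFour.card_four, Finset.card_pair (fun h => Involution.ne_one hz (congrArg Subtype.val h).symm)]
  have hcl : Nat.card {x : G // IsConj z x} * 4 = Nat.card G := by
    have h := Char.card_conjugates_mul_card_centralizer z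
    rw [hcC] at h
    exact h
  set n : ℤ := (Nat.card G : ℤ) with hn
  have hS : (n : ℂ) * ∑ χ ∈ B, (s χ : ℂ) / (d χ : ℂ) = 32 := by
    have h := Char.class_mult_formula (G := G) z z z
    rw [hpairs, ← Finset.sum_sdiff (Finset.subset_univ B),
      Finset.sum_eq_zero (fun χ hχ => by
        rw [hv, hvan χ (Finset.mem_sdiff.1 hχ).2]; simp), zero_add,
      Finset.sum_congr rfl (g := fun χ => (s χ : ℂ) / (d χ : ℂ)) (fun χ hχ => by
        rw [hv, hvB χ hχ, hd, map_intCast]
        rcases hunit χ hχ with e | e <;> rw [e] <;> norm_num)] at h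
    have hG : (Nat.card G : ℂ) = 4 * (Nat.card {x : G // IsConj z x} : ℂ) := by
      rw [← hcl]; push_cast; ring
    have hG0 : (Nat.card G : ℂ) ≠ 0 := Nat.cast_ne_zero.2 Nat.card_pos.ne'
    rw [hn, Int.cast_natCast]
    rw [hG] at h hG0 ⊢
    have hc0 := (mul_ne_zero_iff.1 hG0).2
    field_simp at h
    push_cast at h
    linear_combination -4 * h
  -- the three nontrivial characters
  obtain ⟨χa, χb, χc, hab, hac, hbc, heq⟩ := Finset.card_eq_three.1
    (show (B.erase one).card = 3 by rw [Finset.card_erase_of_mem honeB, hcard])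
  have hsumB : ∀ {A : Type} [AddCommMonoid A] (f : IrrCharacter G → A),
      ∑ χ ∈ B, f χ = f one + (f χa + (f χb + f χc)) := fun {A} _ f => by
    rw [← Finset.add_sum_erase B f honeB, heq, Finset.sum_insert (by simp [hab, hac]),
      Finset.sum_pair hbc]
  have hin : ∀ χ, χ ∈ ({χa, χb, χc} : Finset _) → χ ∈ B := fun χ h =>
    (Finset.mem_erase.1 (heq.symm ▸ h : χ ∈ B.erase one)).2
  have ha := hin χa (by simp)
  have hb := hin χb (by simp)
  have hc := hin χc (by simp)
  have hmod' : ∀ χ ∈ B, (4 : ℤ) ∣ s χ * d χ - 1 := fun χ hχ => by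
    have h := hmod χ hχ
    change (4 : ℤ) ∣ d χ - s χ at h
    rcases hunit χ hχ with e | e <;> rw [e] at h ⊢
    · simpa using h
    · obtain ⟨w, hw⟩ := h; exact ⟨-w, by linarith⟩
  have hzero : 1 + s χa * d χa + s χb * d χb + s χc * d χc = 0 := by
    have h := horth 1 (by rw [orderOf_one]; exact odd_one)
    simp only [hd, hsumB, hs1, hd1] at h
    norm_cast at h
    norm_num at h
    linarith
  have hsq : 1 + s χa * d χa * (s χa * d χa) + s χb * d χb * (s χb * d χb) + s χc * d χc * (s χc * d χc) ≤ n := by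
    have h := Char.sum_sq_degrees (G := G)
    simp only [hd] at h
    have h' : ∑ χ : IrrCharacter G, d χ ^ 2 = n := by
      have : ((∑ χ : IrrCharacter G, d χ ^ 2 : ℤ) : ℂ) = (n : ℂ) := by
        push_cast; rw [h, hn]; simp
      exact_mod_cast this
    rw [← h']
    refine le_trans ?_ (Finset.sum_le_sum_of_subset_of_nonneg (Finset.subset_univ B) fun χ _ _ => sq_nonneg _)
    rw [hsumB, hd1]
    rcases hunit χa ha with e | e <;> rcases hunit χb hb with f | f <;> rcases hunit χc hc with g | g <;>
      rw [e, f, g] <;> nlinarith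
  have hquot : ∀ χ ∈ B, (s χ : ℂ) / (d χ : ℂ) = 1 / ((s χ * d χ : ℤ) : ℂ) := fun χ hχ => by
    rcases hunit χ hχ with e | e <;> rw [e]
    · simp
    · push_cast; rw [neg_one_mul, one_div, inv_neg, div_eq_mul_inv, neg_one_mul]
  rw [hsumB, hs1, hd1, hquot χa ha, hquot χb hb, hquot χc hc] at hS
  have hne : ∀ χ ∈ B, ((s χ * d χ : ℤ) : ℂ) ≠ 0 := fun χ hχ => Int.cast_ne_zero.2 (by
    have := hdpos χ
    rcases hunit χ hχ with e | e <;> rw [e] <;> omega)
  have h1 := hne χa ha
  have h2 := hne χb hb
  have h3 := hne χc hc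
  have m1 := hmod' χa ha
  have m2 := hmod' χb hb
  have m3 := hmod' χc hc
  generalize s χa * d χa = ea at h1 m1 hzero hsq hS
  generalize s χb * d χb = eb at h2 m2 hzero hsq hS
  generalize s χc * d χc = ec at h3 m3 hzero hsq hS
  push_cast at hS
  field_simp at hS
  have hfin := order_arith (n := n) m1 m2 m3 hzero hsq (by
    have : ((32 * (ea * eb * ec) : ℤ) : ℂ) = ((n * (ea * eb * ec + eb * ec + ea * ec + ea * eb) : ℤ) : ℂ) := by
      push_cast
      linear_combination -hS
    exact_mod_cast this)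
  omega

end Cfsg.Agent.DihedralEight
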